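import Groth.Agent.FComplLib.Spf
import Groth.Agent.SmoothingLib.LiftSmooth
import Groth.Agent.ModPairLib.Basic
import Mathlib.AlgebraicGeometry.Morphisms.Smooth

/-!
# Local smooth formal liftings
-/

set_option autoImplicit false
set_option backward.isDefEq.respectTransparency false
set_option linter.style.haveILetI false

universe u

open CategoryTheory CategoryTheory.Limits AlgebraicGeometry TopologicalSpace

noncomputable section

namespace Groth.Agent.FSchSmooth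

open Groth.Agent

variable {S : Scheme.{u}} (𝒥 : S.IdealSheafData)

/-- The affine scheme of an algebra over an affine open. -/
abbrev toBase (W : S.affineOpens) {C : Type u} [CommRing C] (φ : Γ(S, W.1) →+* C) : Spec (CommRingCat.of C) ⟶ S :=
  Spec.map (CommRingCat.ofHom φ) ≫ W.2.fromSpec

theorem toBase_preimage (W : S.affineOpens) {C : Type u} [CommRing C] (φ : Γ(S, W.1) →+* C) :
    (⊤ : (Spec (CommRingCat.of C)).Opens) ≤ toBase W φ ⁻¹ᵁ W.1 := by
  intro x _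
  have h : W.2.fromSpec (Spec.map (CommRingCat.ofHom φ) x) ∈ Set.range W.2.fromSpec := ⟨_, rfl⟩
  rw [W.2.range_fromSpec] at h
  exact h

theorem toBase_appLE (W : S.affineOpens) {C : Type u} [CommRing C] (φ : Γ(S, W.1) →+* C) :
    (toBase W φ).appLE W.1 ⊤ (toBase_preimage W φ) =
      CommRingCat.ofHom φ ≫ (Scheme.ΓSpecIso (CommRingCat.of C)).inv := by
  rw [Scheme.Hom.comp_appLE, W.2.fromSpec_app_self, Category.assoc, Scheme.Hom.map_appLE,
    Scheme.ΓSpecIso_inv_naturality]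
  simp [Scheme.Hom.app_eq_appLE]
  rfl

theorem comap_ideal_toBase (W : S.affineOpens) {C : Type u} [CommRing C] (φ : Γ(S, W.1) →+* C) :
    (𝒥.comap (toBase W φ)).ideal ⟨⊤, isAffineOpen_top _⟩ =
      ((𝒥.ideal W).map φ).map (Scheme.ΓSpecIso (CommRingCat.of C)).inv.hom := by
  rw [ModPairLib.ideal_comap 𝒥 (toBase W φ) W ⟨⊤, isAffineOpen_top _⟩ (toBase_preimage W φ), toBase_appLE,
    Ideal.map_map]
  rfl

variable {X₀ : Scheme.{u}} (a : X₀ ⟶ (FSch.completionAlong S 𝒥).X 0)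

theorem ideal_ker_completionToX (W : S.affineOpens) :
    RingHom.ker ((FSch.completionToX S 𝒥 0).app W.1).hom = 𝒥.ideal W := by
  rw [← FComplLib.ideal_ker (FSch.completionToX S 𝒥 0) W, Scheme.IdealSheafData.ker_subschemeι, zero_add, pow_one]

/-- Smooth affine schemes over the closed subscheme lift. -/
theorem exists_chart [AlgebraicGeometry.Smooth a] (W : S.affineOpens) (U₀ : X₀.affineOpens)
    (e : U₀.1 ≤ (a ≫ FSch.completionToX S 𝒥 0) ⁻¹ᵁ W.1) :
    ∃ (C : Type u) (_ : CommRing C) (φ : Γ(S, W.1) →+* C), φ.Smooth ∧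
      ∃ ρ : C →+* Γ(X₀, U₀.1), Function.Surjective ρ ∧ RingHom.ker ρ = (𝒥.ideal W).map φ ∧
        ρ.comp φ = ((a ≫ FSch.completionToX S 𝒥 0).appLE W.1 U₀.1 e).hom := by
  let i₀ := FSch.completionToX S 𝒥 0
  let ψ := (i₀.app W.1).hom
  have hψ : Function.Surjective ψ := i₀.app_surjective W.1 W.2
  let I := 𝒥.ideal W
  let e₀ : Γ(S, W.1) ⧸ I ≃+* Γ((FSch.completionAlong S 𝒥).X 0, i₀ ⁻¹ᵁ W.1) :=
    (Ideal.quotEquivOfEq (ideal_ker_completionToX 𝒥 W).symm).trans (RingHom.quotientKerEquivOfSurjective hψ)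
  have hsm : (a.appLE (i₀ ⁻¹ᵁ W.1) U₀.1 e).hom.Smooth :=
    HasRingHomProperty.appLE @AlgebraicGeometry.Smooth a ‹_› ⟨_, W.2.preimage i₀⟩ U₀ e
  let κ := (a.appLE (i₀ ⁻¹ᵁ W.1) U₀.1 e).hom.comp e₀.toRingHom
  have hκ : κ.Smooth := RingHom.Smooth.propertyIsLocal.respectsIso.2 _ e₀ hsm
  letI : Algebra (Γ(S, W.1) ⧸ I) Γ(X₀, U₀.1) := κ.toAlgebra
  haveI : Algebra.Smooth (Γ(S, W.1) ⧸ I) Γ(X₀, U₀.1) := hκ
  obtain ⟨C, _, _, hC, ⟨ε⟩⟩ := SmoothingLib.exists_smooth_lift (A₀ := Γ(X₀, U₀.1)) I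
  let φ := algebraMap Γ(S, W.1) C
  refine ⟨C, inferInstance, φ, RingHom.smooth_algebraMap.2 hC,
    ε.toAlgHom.toRingHom.comp (Ideal.Quotient.mk (I.map φ)), ε.surjective.comp Ideal.Quotient.mk_surjective, ?_, ?_⟩
  · ext c
    rw [RingHom.mem_ker, ← Ideal.Quotient.eq_zero_iff_mem]
    exact map_eq_zero_iff ε.toAlgHom.toRingHom ε.injective
  · ext x
    refine (ε.commutes (Ideal.Quotient.mk I x)).trans ?_
    rw [Scheme.Hom.comp_appLE]
    show (a.appLE (i₀ ⁻¹ᵁ W.1) U₀.1 e).hom (e₀ (Ideal.Quotient.mk I x)) = _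
    rfl

/-- A chart is the base change of the lift. -/
theorem isPullback_chart (W : S.affineOpens) (U₀ : X₀.affineOpens)
    (e : U₀.1 ≤ (a ≫ FSch.completionToX S 𝒥 0) ⁻¹ᵁ W.1) {C : Type u} [CommRing C] (φ : Γ(S, W.1) →+* C)
    (ρ : C →+* Γ(X₀, U₀.1)) (hρ : Function.Surjective ρ) (hker : RingHom.ker ρ = (𝒥.ideal W).map φ)
    (hcomm : ρ.comp φ = ((a ≫ FSch.completionToX S 𝒥 0).appLE W.1 U₀.1 e).hom) :
    IsPullback (U₀.2.isoSpec.hom ≫ Spec.map (CommRingCat.ofHom ρ)) (U₀.1.ι ≫ a) (toBase W φ)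
      (FSch.completionToX S 𝒥 0) := by
  haveI := IsClosedImmersion.spec_of_surjective (CommRingCat.ofHom ρ) hρ
  have h0 : IsPullback (Spec.map (CommRingCat.ofHom ρ)) (U₀.2.fromSpec ≫ a) (toBase W φ)
      (FSch.completionToX S 𝒥 0) := by
    refine isPullback_of_isClosedImmersion _ _ _ _ ?_ ?_
    · rw [← Spec.map_comp_assoc, ← CommRingCat.ofHom_comp, hcomm, CommRingCat.ofHom_hom,
        IsAffineOpen.SpecMap_appLE_fromSpec, Category.assoc]
    · rw [Scheme.IdealSheafData.ker_subschemeι, zero_add, pow_one]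
      refine Scheme.IdealSheafData.ext_of_isAffine ?_
      rw [comap_ideal_toBase, FComplLib.ker_specMap_ideal ρ hρ, hker]
  refine h0.of_iso U₀.2.isoSpec.symm (Iso.refl _) (Iso.refl _) (Iso.refl _) ?_ ?_ ?_ ?_
  · simp
  · simp only [Iso.refl_hom, Iso.symm_hom, Category.comp_id, ← Category.assoc, IsAffineOpen.isoSpec_inv_ι]
  · simp
  · simp

theorem pow_step_le {C : Type u} [CommRing C] (J : Ideal C) (n : ℕ) : J ^ (n + 1 + 1) ≤ J ^ (n + 1) :=
  Ideal.pow_le_pow_right (by omega)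

theorem pow_mul_step_le {C : Type u} [CommRing C] (J : Ideal C) (n : ℕ) :
    J ^ (n + 1) * J ^ (n + 1) ≤ J ^ (n + 1 + 1) := by
  rw [← pow_add]
  exact Ideal.pow_le_pow_right (by omega)

/-- One lifting step. -/
theorem exists_lift_step {A B C : Type u} [CommRing A] [CommRing B] [CommRing C] [Algebra A B] [Algebra A C]
    [Algebra.FormallySmooth A B] (I₁ I₂ : Ideal C) (hle : I₂ ≤ I₁) (h2 : I₁ * I₁ ≤ I₂) (g : B →ₐ[A] C ⧸ I₁) :
    ∃ g' : B →ₐ[A] C ⧸ I₂, ∀ b, Ideal.Quotient.factor hle (g' b) = g b := by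
  let t : (C ⧸ I₂) →ₐ[A] C ⧸ I₁ :=
    { toRingHom := Ideal.Quotient.factor hle
      commutes' := fun r => rfl }
  have hk : RingHom.ker (t : (C ⧸ I₂) →+* C ⧸ I₁) = I₁.map (Ideal.Quotient.mk I₂) := Ideal.Quotient.factor_ker hle
  have hnil : IsNilpotent (RingHom.ker (t : (C ⧸ I₂) →+* C ⧸ I₁)) := ⟨2, by
    rw [hk, ← Ideal.map_pow, pow_two, Submodule.zero_eq_bot, Ideal.map_eq_bot_iff_le_ker, Ideal.mk_ker]
    exact h2⟩
  exact ⟨Algebra.FormallySmooth.liftOfSurjective g t (Ideal.Quotient.factor_surjective hle) hnil,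
    fun b => Algebra.FormallySmooth.liftOfSurjective_apply g t _ hnil b⟩

/-- Formally smooth algebras map compatibly along a descending chain with square zero steps. -/
theorem exists_chain_lifts {A B C : Type u} [CommRing A] [CommRing B] [CommRing C] [Algebra A B] [Algebra A C]
    [Algebra.FormallySmooth A B] (K : ℕ → Ideal C) (hle : ∀ n, K (n + 1) ≤ K n)
    (h2 : ∀ n, K n * K n ≤ K (n + 1)) (g₀ : B →ₐ[A] C ⧸ K 0) :
    ∃ g : ∀ n, B →ₐ[A] C ⧸ K n, g 0 = g₀ ∧ ∀ n b, Ideal.Quotient.factor (hle n) (g (n + 1) b) = g n b := by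
  choose g' hg' using fun n (g : B →ₐ[A] C ⧸ K n) => exists_lift_step (K n) (K (n + 1)) (hle n) (h2 n) g
  exact ⟨fun n => Nat.rec g₀ (fun n g => g' n g) n, rfl, fun n b => hg' n _ b⟩

/-- Formally smooth algebras map compatibly to all infinitesimal neighbourhoods. -/
theorem exists_compatible_lifts {A B C : Type u} [CommRing A] [CommRing B] [CommRing C] [Algebra A B] [Algebra A C]
    [Algebra.FormallySmooth A B] (J : Ideal C) (g₀ : B →ₐ[A] C ⧸ J ^ (0 + 1)) :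
    ∃ g : ∀ n, B →ₐ[A] C ⧸ J ^ (n + 1), g 0 = g₀ ∧
      ∀ n b, Ideal.Quotient.factor (pow_step_le J n) (g (n + 1) b) = g n b :=
  exists_chain_lifts (fun n => J ^ (n + 1)) (pow_step_le J) (pow_mul_step_le J) g₀

variable {Y₀ : Scheme.{u}}

set_option maxHeartbeats 1000000 in
/-- Morphisms of smooth schemes over the closed subscheme lift formally, locally on the source. -/
theorem exists_local_lifting [IsLocallyNoetherian S] (b : Y₀ ⟶ (FSch.completionAlong S 𝒥).X 0)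
    [AlgebraicGeometry.Smooth a] [AlgebraicGeometry.Smooth b] (f : X₀ ⟶ Y₀) (w : f ≫ b = a) (x : X₀) :
    ∃ (U₀ : X₀.Opens) (V₀ : Y₀.Opens) (_ : x ∈ U₀) (hUV : U₀ ≤ f ⁻¹ᵁ V₀)
      (𝔘 𝔙 : FSch.Sys.{u}) (p : 𝔘 ⟶ FSch.completionAlong S 𝒥) (q : 𝔙 ⟶ FSch.completionAlong S 𝒥)
      (Φ : 𝔘 ⟶ 𝔙) (eU : 𝔘.X 0 ≅ U₀.toScheme) (eV : 𝔙.X 0 ≅ V₀.toScheme),
      Φ ≫ q = p ∧ FSch.IsAdicHom p ∧ FSch.IsAdicHom q ∧
      (∀ n : ℕ, AlgebraicGeometry.Smooth ((p : FSch.Hom 𝔘 _).app n)) ∧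
      (∀ n : ℕ, AlgebraicGeometry.Smooth ((q : FSch.Hom 𝔙 _).app n)) ∧
      eU.hom ≫ U₀.ι ≫ a = (p : FSch.Hom 𝔘 _).app 0 ∧
      eV.hom ≫ V₀.ι ≫ b = (q : FSch.Hom 𝔙 _).app 0 ∧
      (Φ : FSch.Hom 𝔘 𝔙).app 0 ≫ eV.hom = eU.hom ≫ f.resLE V₀ U₀ hUV := by
  let i₀ := FSch.completionToX S 𝒥 0
  obtain ⟨W, hW, hyW, -⟩ := exists_isAffineOpen_mem_and_subset (x := i₀ (b (f x))) (U := (⊤ : S.Opens)) trivial
  obtain ⟨V, hV, hyV, hVW⟩ := exists_isAffineOpen_mem_and_subset (x := f x) (U := (b ≫ i₀) ⁻¹ᵁ W) hyW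
  obtain ⟨U, hU, hxU, hUV⟩ := exists_isAffineOpen_mem_and_subset (x := x) (U := f ⁻¹ᵁ V) hyV
  let W' : S.affineOpens := ⟨W, hW⟩
  let V' : Y₀.affineOpens := ⟨V, hV⟩
  let U' : X₀.affineOpens := ⟨U, hU⟩
  have hUW : U ≤ (a ≫ i₀) ⁻¹ᵁ W := by
    rw [← w, Category.assoc]
    exact fun y hy => hVW (hUV hy)
  obtain ⟨B, _, φB, hB, ρB, hρB, hkB, hcB⟩ := exists_chart 𝒥 b W' V' hVW
  obtain ⟨C, _, φC, hC, ρC, hρC, hkC, hcC⟩ := exists_chart 𝒥 a W' U' hUW
  have sqV := isPullback_chart 𝒥 b W' V' hVW φB ρB hρB hkB hcB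
  have sqU := isPullback_chart 𝒥 a W' U' hUW φC ρC hρC hkC hcC
  -- the compatible lifts on rings
  letI : Algebra Γ(S, W) B := φB.toAlgebra
  letI : Algebra Γ(S, W) C := φC.toAlgebra
  haveI : Algebra.Smooth Γ(S, W) B := hB
  let J : Ideal C := (𝒥.ideal W').map φC
  have hkJ : J ^ (0 + 1) = RingHom.ker ρC := by rw [zero_add, pow_one, hkC]
  let εC : C ⧸ J ^ (0 + 1) ≃+* Γ(X₀, U) :=
    (Ideal.quotEquivOfEq hkJ).trans (RingHom.quotientKerEquivOfSurjective hρC)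
  have hεC : ∀ c, εC (Ideal.Quotient.mk _ c) = ρC c := fun c => rfl
  let g₀r : B →+* C ⧸ J ^ (0 + 1) := εC.symm.toRingHom.comp ((f.appLE V U hUV).hom.comp ρB)
  have hg₀ : ∀ r, g₀r (φB r) = Ideal.Quotient.mk _ (φC r) := fun r => by
    apply εC.injective
    show εC (εC.symm _) = _
    rw [RingEquiv.apply_symm_apply, hεC]
    show (f.appLE V U hUV).hom ((ρB.comp φB) r) = (ρC.comp φC) r
    rw [hcB, hcC]
    have h : (b ≫ i₀).appLE W V hVW ≫ f.appLE V U hUV = (a ≫ i₀).appLE W U hUW := by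
      rw [Scheme.Hom.appLE_comp_appLE]
      simp only [← Category.assoc, w]
    exact ConcreteCategory.congr_hom h r
  let g₀ : B →ₐ[Γ(S, W)] C ⧸ J ^ (0 + 1) := { g₀r with commutes' := hg₀ }
  obtain ⟨g, hg0, hg⟩ := exists_compatible_lifts J g₀
  -- the systems
  let πB := toBase W' φB
  let πC := toBase W' φC
  have hpowB : FSch.PowCompat πB (𝒥.comap πB) 𝒥 := fun n => (FComplLib.comap_pow πB 𝒥 (n + 1)).le
  have hpowC : FSch.PowCompat πC (𝒥.comap πC) 𝒥 := fun n => (FComplLib.comap_pow πC 𝒥 (n + 1)).le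
  let p := FSch.completionMap πC (𝒥.comap πC) 𝒥 hpowC
  let q := FSch.completionMap πB (𝒥.comap πB) 𝒥 hpowB
  have pbU := FComplLib.isPullback_completionMap_app πC 𝒥 hpowC
  have pbV := FComplLib.isPullback_completionMap_app πB 𝒥 hpowB
  haveI : AlgebraicGeometry.Smooth (Spec.map (CommRingCat.ofHom φC)) :=
    (HasRingHomProperty.Spec_iff (P := @AlgebraicGeometry.Smooth)).2 hC
  haveI : AlgebraicGeometry.Smooth (Spec.map (CommRingCat.ofHom φB)) :=
    (HasRingHomProperty.Spec_iff (P := @AlgebraicGeometry.Smooth)).2 hB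
  haveI hsC : AlgebraicGeometry.Smooth πC := inferInstance
  haveI hsB : AlgebraicGeometry.Smooth πB := inferInstance
  -- the levels map to the quotients
  haveI : ∀ n, IsClosedImmersion (Spec.map (CommRingCat.ofHom (Ideal.Quotient.mk (J ^ (n + 1))))) := fun n =>
    IsClosedImmersion.spec_of_surjective _ Ideal.Quotient.mk_surjective
  have hJ : (Spec.map (CommRingCat.ofHom (Ideal.Quotient.mk J))).ker = 𝒥.comap πC := by
    haveI := IsClosedImmersion.spec_of_surjective (CommRingCat.ofHom (Ideal.Quotient.mk J)) Ideal.Quotient.mk_surjective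
    refine Scheme.IdealSheafData.ext_of_isAffine ?_
    rw [FComplLib.ker_specMap_ideal _ Ideal.Quotient.mk_surjective, Ideal.mk_ker, comap_ideal_toBase]
  have hle : ∀ n, (Spec.map (CommRingCat.ofHom (Ideal.Quotient.mk (J ^ (n + 1))))).ker ≤
      (FSch.completionToX (Spec (CommRingCat.of C)) (𝒥.comap πC) n).ker := fun n => by
    rw [FComplLib.ker_specMap_eq_pow _ (Ideal.Quotient.mk J) Ideal.Quotient.mk_surjective
      Ideal.Quotient.mk_surjective (n + 1) (by rw [Ideal.mk_ker, Ideal.mk_ker]), hJ,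
      Scheme.IdealSheafData.ker_subschemeι]
  let l : ∀ n, (FSch.completionAlong _ (𝒥.comap πC)).X n ⟶ Spec (CommRingCat.of (C ⧸ J ^ (n + 1))) :=
    fun n => IsClosedImmersion.lift _ _ (hle n)
  have hl : ∀ n, l n ≫ Spec.map (CommRingCat.ofHom (Ideal.Quotient.mk (J ^ (n + 1)))) =
      FSch.completionToX _ (𝒥.comap πC) n := fun n => IsClosedImmersion.lift_fac _ _ _
  let ψ : ∀ n, (FSch.completionAlong _ (𝒥.comap πC)).X n ⟶ Spec (CommRingCat.of B) :=
    fun n => l n ≫ Spec.map (CommRingCat.ofHom (g n).toRingHom)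
  have hψ : ∀ n, ψ n ≫ πB = (p : FSch.Hom _ _).app n ≫ FSch.completionToX S 𝒥 n := fun n => by
    rw [← (pbU n).w]
    show (l n ≫ _) ≫ Spec.map _ ≫ _ = _ ≫ Spec.map _ ≫ _
    rw [← hl n, Category.assoc, Category.assoc, ← Spec.map_comp_assoc, ← Spec.map_comp_assoc,
      ← CommRingCat.ofHom_comp, ← CommRingCat.ofHom_comp,
      show (g n).toRingHom.comp φB = (Ideal.Quotient.mk (J ^ (n + 1))).comp φC from RingHom.ext (g n).commutes]
  have hψι : ∀ n, (FSch.completionAlong _ (𝒥.comap πC)).ι n ≫ ψ (n + 1) = ψ n := fun n => by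
    have h1 : (FSch.completionAlong _ (𝒥.comap πC)).ι n ≫ l (n + 1) =
        l n ≫ CohB1.specQuotTrans J n := by
      rw [← cancel_mono (Spec.map (CommRingCat.ofHom (Ideal.Quotient.mk (J ^ (n + 1 + 1))))), Category.assoc,
        Category.assoc, hl (n + 1), CohB1.specQuotTrans, ← Spec.map_comp, ← CommRingCat.ofHom_comp,
        Ideal.Quotient.factor_comp_mk, hl n]
      exact Scheme.IdealSheafData.inclusion_subschemeι _
    show _ ≫ l (n + 1) ≫ _ = l n ≫ _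
    rw [← Category.assoc, h1, Category.assoc, CohB1.specQuotTrans, ← Spec.map_comp, ← CommRingCat.ofHom_comp]
    congr 3
    exact RingHom.ext (hg n)
  let Φ : FSch.completionAlong _ (𝒥.comap πC) ⟶ FSch.completionAlong _ (𝒥.comap πB) :=
    ⟨fun n => (pbV n).lift (ψ n) ((p : FSch.Hom _ _).app n) (hψ n), fun n => by
      apply (pbV (n + 1)).hom_ext
      · rw [Category.assoc, Category.assoc, (pbV (n + 1)).lift_fst,
          show (FSch.completionAlong _ (𝒥.comap πB)).ι n ≫ FSch.completionToX _ (𝒥.comap πB) (n + 1) =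
            FSch.completionToX _ (𝒥.comap πB) n from Scheme.IdealSheafData.inclusion_subschemeι _,
          (pbV n).lift_fst]
        exact (hψι n).symm
      · rw [Category.assoc, Category.assoc, (pbV (n + 1)).lift_snd, ← (q : FSch.Hom _ _).comm,
          (pbV n).lift_snd_assoc]
        exact (p : FSch.Hom _ _).comm n⟩
  let eU := (pbU 0).isoIsPullback _ _ sqU
  let eV := (pbV 0).isoIsPullback _ _ sqV
  refine ⟨U, V, hxU, hUV, _, _, p, q, Φ, eU, eV, FSch.Hom.ext (funext fun n => (pbV n).lift_snd _ _ _),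
    FComplLib.isAdicHom_completionMap πC 𝒥 hpowC, FComplLib.isAdicHom_completionMap πB 𝒥 hpowB,
    fun n => MorphismProperty.of_isPullback (P := @AlgebraicGeometry.Smooth) (pbU n) hsC,
    fun n => MorphismProperty.of_isPullback (P := @AlgebraicGeometry.Smooth) (pbV n) hsB,
    IsPullback.isoIsPullback_hom_snd _ _ _ _, IsPullback.isoIsPullback_hom_snd _ _ _ _, ?_⟩
  apply sqV.hom_ext
  · have hres : f.resLE V U hUV ≫ hV.isoSpec.hom =
        hU.isoSpec.hom ≫ Spec.map (f.appLE V U hUV) := by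
      rw [← cancel_mono hV.fromSpec, Category.assoc, Category.assoc, IsAffineOpen.SpecMap_appLE_fromSpec f hV hU,
        ← hV.isoSpec_inv_ι, ← hU.isoSpec_inv_ι, Category.assoc, Iso.hom_inv_id_assoc, Iso.hom_inv_id_assoc,
        Scheme.Hom.resLE_comp_ι]
    rw [Category.assoc, Category.assoc, IsPullback.isoIsPullback_hom_fst, (pbV 0).lift_fst]
    show l 0 ≫ Spec.map _ = eU.hom ≫ _ ≫ hV.isoSpec.hom ≫ _
    rw [← Category.assoc (f.resLE V U hUV), hres, Category.assoc, ← Spec.map_comp]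
    have h0 : εC.toRingHom.comp (Ideal.Quotient.mk (J ^ (0 + 1))) = ρC := RingHom.ext hεC
    have h1 : l 0 = eU.hom ≫ hU.isoSpec.hom ≫ Spec.map (CommRingCat.ofHom εC.toRingHom) := by
      rw [← cancel_mono (Spec.map (CommRingCat.ofHom (Ideal.Quotient.mk (J ^ (0 + 1))))), hl 0,
        Category.assoc, Category.assoc, ← Spec.map_comp, ← CommRingCat.ofHom_comp, h0]
      exact (IsPullback.isoIsPullback_hom_fst _ _ _ _).symm
    rw [h1, hg0, Category.assoc, Category.assoc, ← Spec.map_comp]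
    congr 3
    ext z
    exact εC.apply_symm_apply _
  · rw [Category.assoc, Category.assoc, IsPullback.isoIsPullback_hom_snd, (pbV 0).lift_snd]
    refine Eq.trans (IsPullback.isoIsPullback_hom_snd _ _ (pbU 0) sqU).symm ?_
    show eU.hom ≫ U.ι ≫ a = eU.hom ≫ f.resLE V U hUV ≫ V.ι ≫ b
    rw [Scheme.Hom.resLE_comp_ι_assoc, w]

end Groth.Agent.FSchSmooth
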